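import Mathlib
import Cfsg.Agent.Lib.Helper51.TIH.Defs

/-!
# TIH (S4118): package [AUT-P] -- coprime automorphisms of a cyclic or generalized quaternion
`p`-group: the derived group acts trivially.
-/

set_option autoImplicit false

namespace Cfsg.Agent.Lib.Helper80.TIH

open Cfsg.Agent.Lib.Helper51.TIH
open scoped commutatorElement

universe u

section cyc

/-- conjugation by an element normalizing a cyclic subgroup is a power map -/
theorem conj_pow_of_cyclic80 {G : Type u} [Group G] (T : Subgroup G) (hT : IsCyclic T) (a : G)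
    (ha : a ∈ Subgroup.normalizer (T : Set G)) : ∃ m : ℤ, ∀ t ∈ T, a * t * a⁻¹ = t ^ m := by
  obtain ⟨⟨g₀, hg₀⟩, hgen⟩ := hT.exists_generator
  have hconj : a * g₀ * a⁻¹ ∈ T := (Subgroup.mem_normalizer_iff.mp ha g₀).mp hg₀
  obtain ⟨m, hm⟩ := Subgroup.mem_zpowers_iff.mp (hgen ⟨a * g₀ * a⁻¹, hconj⟩)
  have hm' : g₀ ^ m = a * g₀ * a⁻¹ := by
    have := congrArg Subtype.val hm
    simpa using this
  refine ⟨m, fun t ht => ?_⟩
  obtain ⟨k, hk⟩ := Subgroup.mem_zpowers_iff.mp (hgen ⟨t, ht⟩)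
  have hk' : g₀ ^ k = t := by
    have := congrArg Subtype.val hk
    simpa using this
  rw [← hk']
  have h1 : a * g₀ ^ k * a⁻¹ = (a * g₀ * a⁻¹) ^ k := by
    rw [conj_zpow]
  rw [h1, ← hm', ← zpow_mul, ← zpow_mul, mul_comm]

/-- the cyclic case -/
theorem comm_le_centralizer_of_cyclic80 {G : Type u} [Group G] (T A : Subgroup G)
    (hA : A ≤ Subgroup.normalizer (T : Set G)) (hT : IsCyclic T) :
    ⁅A, A⁆ ≤ Subgroup.centralizer (T : Set G) := by
  rw [Subgroup.commutator_le]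
  intro a ha b hb
  obtain ⟨m1, h1⟩ := conj_pow_of_cyclic80 T hT a (hA ha)
  obtain ⟨m2, h2⟩ := conj_pow_of_cyclic80 T hT b (hA hb)
  obtain ⟨m3, h3⟩ := conj_pow_of_cyclic80 T hT a⁻¹ (hA (inv_mem ha))
  obtain ⟨m4, h4⟩ := conj_pow_of_cyclic80 T hT b⁻¹ (hA (inv_mem hb))
  rw [Subgroup.mem_centralizer_iff]
  intro t ht
  have hpow : ∀ (s : G), s ∈ T → ∀ k : ℤ, s ^ k ∈ T := fun s hs k => zpow_mem hs k
  have e1 : ⁅a, b⁆ * t * ⁅a, b⁆⁻¹ =
      a * (b * (a⁻¹ * (b⁻¹ * t * b⁻¹⁻¹) * a⁻¹⁻¹) * b⁻¹) * a⁻¹ := by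
    rw [commutatorElement_def]
    group
  have e4 : a * (a⁻¹ * (b * (b⁻¹ * t * b⁻¹⁻¹) * b⁻¹) * a⁻¹⁻¹) * a⁻¹ =
      (((t ^ m4) ^ m2) ^ m3) ^ m1 := by
    rw [h4 t ht, h2 _ (hpow _ ht _), h3 _ (hpow _ (hpow _ ht _) _),
      h1 _ (hpow _ (hpow _ (hpow _ ht _) _) _)]
  have e2 : ⁅a, b⁆ * t * ⁅a, b⁆⁻¹ = t := by
    rw [e1, h4 t ht, h3 _ (hpow _ ht _), h2 _ (hpow _ (hpow _ ht _) _),
      h1 _ (hpow _ (hpow _ (hpow _ ht _) _) _)]
    calc (((t ^ m4) ^ m3) ^ m2) ^ m1 = (((t ^ m4) ^ m2) ^ m3) ^ m1 := by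
          simp only [← zpow_mul]
          congr 1
          ring
      _ = a * (a⁻¹ * (b * (b⁻¹ * t * b⁻¹⁻¹) * b⁻¹) * a⁻¹⁻¹) * a⁻¹ := e4.symm
      _ = t := by group
  exact (mul_inv_eq_iff_eq_mul.mp e2).symm

end cyc

section quat

open QuaternionGroup

/-- parity of the index -/
def par80 (m : ℕ) (i : ZMod (2 * m)) : ZMod 2 := ZMod.castHom (dvd_mul_right 2 m) (ZMod 2) i

theorem par80_add (m : ℕ) (i j : ZMod (2 * m)) : par80 m (i + j) = par80 m i + par80 m j :=
  map_add _ _ _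

theorem par80_sub (m : ℕ) (i j : ZMod (2 * m)) : par80 m (i - j) = par80 m i - par80 m j :=
  map_sub _ _ _

theorem par80_nat (m k : ℕ) : par80 m (k : ZMod (2 * m)) = (k : ZMod 2) := map_natCast _ _

/-- the map onto the Klein four-group with kernel the squares -/
def kap80 (m : ℕ) : QuaternionGroup m → ZMod 2 × ZMod 2
  | a i => (0, par80 m i)
  | xa i => (1, par80 m i)

theorem z2_aux1_80 : ∀ u v : ZMod 2,
    ((1 : ZMod 2), v - u) = ((0 : ZMod 2), u) + ((1 : ZMod 2), v) := by decide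

theorem z2_aux2_80 : ∀ u v : ZMod 2,
    ((0 : ZMod 2), v - u) = ((1 : ZMod 2), u) + ((1 : ZMod 2), v) := by decide

theorem z2_aux3_80 : ∀ x : ZMod 2 × ZMod 2, x + x = 0 := by decide

theorem kap80_mul {m : ℕ} (hm : Even m) (x y : QuaternionGroup m) :
    kap80 m (x * y) = kap80 m x + kap80 m y := by
  have hm0 : par80 m (m : ZMod (2 * m)) = 0 := by
    rw [par80_nat, ZMod.natCast_eq_zero_iff]
    exact even_iff_two_dvd.mp hm
  rcases x with i | i <;> rcases y with j | j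
  · rw [a_mul_a]
    simp only [kap80, par80_add, Prod.mk_add_mk, add_zero]
  · rw [a_mul_xa]
    simp only [kap80, par80_sub]
    exact z2_aux1_80 _ _
  · rw [xa_mul_a]
    simp only [kap80, par80_add, Prod.mk_add_mk, add_zero]
  · rw [xa_mul_xa]
    simp only [kap80, par80_sub, par80_add, hm0, zero_add]
    exact z2_aux2_80 _ _

/-- `kap80` as a homomorphism -/
def kapHom80 {m : ℕ} (hm : Even m) : QuaternionGroup m →* Multiplicative (ZMod 2 × ZMod 2) :=
  MonoidHom.mk' (fun q => Multiplicative.ofAdd (kap80 m q)) (by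
    intro x y
    rw [kap80_mul hm]
    rfl)

theorem kapHom80_eq_one {m : ℕ} [NeZero m] (hm : Even m) (q : QuaternionGroup m)
    (h : kapHom80 hm q = 1) : ∃ j : ZMod (2 * m), q = a j * a j := by
  have h' : kap80 m q = 0 := h
  rcases q with i | i
  · have hp : par80 m i = 0 := (Prod.ext_iff.mp h').2
    have hne2 : NeZero (2 * m) := ⟨by have := NeZero.ne m; omega⟩
    have hval : ((i.val : ℕ) : ZMod 2) = 0 := by
      rw [← par80_nat m, ZMod.natCast_zmod_val]
      exact hp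
    rw [ZMod.natCast_eq_zero_iff] at hval
    obtain ⟨k, hk⟩ := hval
    refine ⟨(k : ZMod (2 * m)), ?_⟩
    rw [a_mul_a]
    congr 1
    rw [← ZMod.natCast_zmod_val i, hk]
    push_cast
    ring
  · exfalso
    have h1 : (1 : ZMod 2) = 0 := (Prod.ext_iff.mp h').1
    exact absurd h1 (by decide)

theorem kapHom80_surj {m : ℕ} (hm : Even m) : Function.Surjective (kapHom80 hm) := by
  intro v
  have key : ∀ w : ZMod 2 × ZMod 2, ∃ q : QuaternionGroup m, kap80 m q = w := by
    rintro ⟨x, y⟩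
    have hx : x = 0 ∨ x = 1 := by
      revert x
      decide
    have hy : y = 0 ∨ y = 1 := by
      revert y
      decide
    rcases hx with rfl | rfl <;> rcases hy with rfl | rfl
    · exact ⟨a 0, by simp [kap80, par80]⟩
    · exact ⟨a 1, by simp [kap80, par80]⟩
    · exact ⟨xa 0, by simp [kap80, par80]⟩
    · exact ⟨xa 1, by simp [kap80, par80]⟩
  obtain ⟨q, hq⟩ := key (Multiplicative.toAdd v)
  refine ⟨q, ?_⟩
  show Multiplicative.ofAdd (kap80 m q) = v
  rw [hq]
  rfl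

/-- the generalized quaternion case -/
theorem comm_le_centralizer_of_quat80 {G : Type u} [Group G] [Finite G] (T A : Subgroup G)
    (n : ℕ) (hn : 1 ≤ n) (hA : A ≤ Subgroup.normalizer (T : Set G)) (hodd : Odd (Nat.card A))
    (e : T ≃* QuaternionGroup (2 ^ n)) : ⁅A, A⁆ ≤ Subgroup.centralizer (T : Set G) := by
  classical
  have hm : Even (2 ^ n) := Nat.even_pow.mpr ⟨even_two, by omega⟩
  have hne : NeZero (2 ^ n) := ⟨by positivity⟩
  let κ : ↥T →* Multiplicative (ZMod 2 × ZMod 2) := (kapHom80 hm).comp e.toMonoidHom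
  have hκsurj : Function.Surjective κ := (kapHom80_surj hm).comp e.surjective
  have hsq1 : ∀ v : Multiplicative (ZMod 2 × ZMod 2), v * v = 1 := by
    intro v
    exact congrArg Multiplicative.ofAdd (z2_aux3_80 (Multiplicative.toAdd v))
  let g₀ : ↥T := e.symm (a 1)
  have hker : ∀ t : ↥T, κ t = 1 → ∃ s : ↥T, t = s * s ∧ ∃ k : ℕ, s = g₀ ^ k := by
    intro t ht
    obtain ⟨j, hj⟩ := kapHom80_eq_one hm (e t) ht
    refine ⟨e.symm (a j), ?_, j.val, ?_⟩
    · apply e.injective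
      rw [map_mul, e.apply_symm_apply, hj]
    · apply e.injective
      rw [map_pow, e.apply_symm_apply, e.apply_symm_apply, a_one_pow, ZMod.natCast_zmod_val]
  have hconjmem : ∀ (g : G), g ∈ Subgroup.normalizer (T : Set G) → ∀ t : ↥T,
      g * (t : G) * g⁻¹ ∈ T :=
    fun g hg t => (Subgroup.mem_normalizer_iff.mp hg t).mp t.2
  let cj : ∀ (g : G), g ∈ Subgroup.normalizer (T : Set G) → ↥T → ↥T :=
    fun g hg t => ⟨g * (t : G) * g⁻¹, hconjmem g hg t⟩
  have cj_mul : ∀ g hg (t t' : ↥T), cj g hg (t * t') = cj g hg t * cj g hg t' := by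
    intro g hg t t'
    apply Subtype.ext
    show g * ((t : G) * (t' : G)) * g⁻¹ = (g * (t : G) * g⁻¹) * (g * (t' : G) * g⁻¹)
    group
  have cj_inv : ∀ g hg (t : ↥T), cj g hg t⁻¹ = (cj g hg t)⁻¹ := by
    intro g hg t
    apply Subtype.ext
    show g * (t : G)⁻¹ * g⁻¹ = (g * (t : G) * g⁻¹)⁻¹
    group
  have hκker : ∀ g hg (t : ↥T), κ t = 1 → κ (cj g hg t) = 1 := by
    intro g hg t ht
    obtain ⟨s, rfl, -⟩ := hker t ht
    rw [cj_mul g hg, map_mul]
    exact hsq1 _
  have hκwd : ∀ g hg (t t' : ↥T), κ t = κ t' → κ (cj g hg t) = κ (cj g hg t') := by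
    intro g hg t t' h
    have h1 : κ (t⁻¹ * t') = 1 := by rw [map_mul, map_inv, h, inv_mul_cancel]
    have h2 := hκker g hg _ h1
    rw [cj_mul g hg, cj_inv g hg, map_mul, map_inv] at h2
    exact inv_mul_eq_one.mp h2
  let sec : Multiplicative (ZMod 2 × ZMod 2) → ↥T := Function.surjInv hκsurj
  have hsec : ∀ v, κ (sec v) = v := Function.surjInv_eq hκsurj
  let act : ↥A → Multiplicative (ZMod 2 × ZMod 2) → Multiplicative (ZMod 2 × ZMod 2) :=
    fun x v => κ (cj (x : G) (hA x.2) (sec v))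
  have hact : ∀ (x : ↥A) (t : ↥T), act x (κ t) = κ (cj (x : G) (hA x.2) t) := by
    intro x t
    exact hκwd (x : G) (hA x.2) _ _ (hsec (κ t))
  have hcj1 : ∀ t : ↥T, cj ((1 : ↥A) : G) (hA (1 : ↥A).2) t = t := by
    intro t
    apply Subtype.ext
    show ((1 : ↥A) : G) * (t : G) * ((1 : ↥A) : G)⁻¹ = (t : G)
    simp
  have hcjmul : ∀ (x y : ↥A) (t : ↥T), cj ((x * y : ↥A) : G) (hA (x * y).2) t =
      cj (x : G) (hA x.2) (cj (y : G) (hA y.2) t) := by
    intro x y t
    apply Subtype.ext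
    show ((x * y : ↥A) : G) * (t : G) * ((x * y : ↥A) : G)⁻¹ =
      (x : G) * ((y : G) * (t : G) * (y : G)⁻¹) * (x : G)⁻¹
    simp only [Subgroup.coe_mul]
    group
  let inst : MulAction ↥A (Multiplicative (ZMod 2 × ZMod 2)) :=
    { smul := act
      one_smul := by
        intro v
        show κ (cj ((1 : ↥A) : G) (hA (1 : ↥A).2) (sec v)) = v
        rw [hcj1, hsec]
      mul_smul := by
        intro x y v
        show κ (cj ((x * y : ↥A) : G) (hA (x * y).2) (sec v)) = act x (act y v)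
        rw [hcjmul]
        exact (hact x (cj (y : G) (hA y.2) (sec v))).symm }
  let ρ : ↥A →* Equiv.Perm (Multiplicative (ZMod 2 × ZMod 2)) := MulAction.toPermHom ↥A _
  have hcomm : ∀ x y : ↥A, ρ x * ρ y = ρ y * ρ x := by
    have hd1 : Nat.card ρ.range ∣ Nat.card A := Subgroup.card_range_dvd ρ
    have hd2 : Nat.card ρ.range ∣ 24 := by
      have h := Subgroup.card_subgroup_dvd_card ρ.range
      have hc : Nat.card (Equiv.Perm (Multiplicative (ZMod 2 × ZMod 2))) = 24 := by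
        rw [Nat.card_eq_fintype_card, Fintype.card_perm]
        have h4 : Fintype.card (Multiplicative (ZMod 2 × ZMod 2)) = 4 := by
          rw [Fintype.card_multiplicative, Fintype.card_prod, ZMod.card]
        rw [h4]
        rfl
      rwa [hc] at h
    have hd3 : Nat.card ρ.range ∣ 3 := by
      have hoddr : Odd (Nat.card ρ.range) := hodd.of_dvd_nat hd1
      have hcop : Nat.Coprime (Nat.card ρ.range) 8 := by
        have h2 : Nat.Coprime (Nat.card ρ.range) 2 := Nat.coprime_two_right.mpr hoddr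
        exact Nat.Coprime.pow_right 3 h2
      exact hcop.dvd_of_dvd_mul_left hd2
    have hcommr : ∀ x y : ρ.range, x * y = y * x := by
      rcases (Nat.dvd_prime Nat.prime_three).mp hd3 with h1 | h3
      · have hss : Subsingleton ρ.range := (Nat.card_eq_one_iff_unique.mp h1).1
        intro x y
        rw [Subsingleton.elim x y]
      · have hf3 : Fact (Nat.Prime 3) := ⟨Nat.prime_three⟩
        have hcyc : IsCyclic ρ.range := isCyclic_of_prime_card h3
        obtain ⟨g, hg⟩ := hcyc.exists_generator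
        intro x y
        obtain ⟨i, rfl⟩ := Subgroup.mem_zpowers_iff.mp (hg x)
        obtain ⟨j, rfl⟩ := Subgroup.mem_zpowers_iff.mp (hg y)
        exact zpow_mul_comm g i j
    intro x y
    have h := hcommr ⟨ρ x, ⟨x, rfl⟩⟩ ⟨ρ y, ⟨y, rfl⟩⟩
    exact congrArg Subtype.val h
  have hcomker : commutator ↥A ≤ ρ.ker := by
    rw [commutator_def, Subgroup.commutator_le]
    intro x _ y _
    rw [MonoidHom.mem_ker, map_commutatorElement, commutatorElement_eq_one_iff_mul_comm]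
    exact hcomm x y
  let D : Subgroup G := κ.ker.map T.subtype
  have hDT : D ≤ T := Subgroup.map_subtype_le _
  have hDmem : ∀ t : ↥T, κ t = 1 → (t : G) ∈ D := fun t ht => Subgroup.mem_map.mpr ⟨t, ht, rfl⟩
  have hDmem' : ∀ g ∈ D, ∃ t : ↥T, κ t = 1 ∧ (t : G) = g := by
    intro g hg
    obtain ⟨t, ht, rfl⟩ := Subgroup.mem_map.mp hg
    exact ⟨t, ht, rfl⟩
  have hDcyc : IsCyclic D := by
    have hle : D ≤ Subgroup.zpowers (g₀ : G) := by
      intro g hg
      obtain ⟨t, ht, rfl⟩ := hDmem' g hg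
      obtain ⟨s, rfl, k, rfl⟩ := hker t ht
      rw [Subgroup.coe_mul, Subgroup.coe_pow]
      exact mul_mem (pow_mem (Subgroup.mem_zpowers _) _) (pow_mem (Subgroup.mem_zpowers _) _)
    exact isCyclic_of_injective (Subgroup.inclusion hle) (Subgroup.inclusion_injective hle)
  have hAD : A ≤ Subgroup.normalizer (D : Set G) := by
    intro x hx
    have key : ∀ (g : G), g ∈ Subgroup.normalizer (T : Set G) → ∀ d ∈ D, g * d * g⁻¹ ∈ D := by
      intro g hg d hd
      obtain ⟨t, ht, rfl⟩ := hDmem' d hd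
      exact hDmem (cj g hg t) (hκker g hg t ht)
    rw [Subgroup.mem_normalizer_iff]
    intro d
    constructor
    · exact key x (hA hx) d
    · intro h
      have h1 := key x⁻¹ (inv_mem (hA hx)) _ h
      have e1 : x⁻¹ * (x * d * x⁻¹) * x⁻¹⁻¹ = d := by group
      rwa [e1] at h1
  have hcD := comm_le_centralizer_of_cyclic80 D A hAD hDcyc
  have hBA : ⁅A, A⁆ ≤ A := by
    rw [Subgroup.commutator_le]
    intro g₁ h₁ g₂ h₂
    rw [commutatorElement_def]
    exact mul_mem (mul_mem (mul_mem h₁ h₂) (inv_mem h₁)) (inv_mem h₂)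
  have hTcard : Nat.card T = 2 ^ (n + 2) := by
    rw [Nat.card_congr e.toEquiv, Nat.card_eq_fintype_card, QuaternionGroup.card]
    ring
  intro c hc
  rw [Subgroup.mem_centralizer_iff]
  intro t ht
  have hcA : c ∈ A := hBA hc
  have hc' : (⟨c, hcA⟩ : ↥A) ∈ commutator ↥A := by
    have h := Subgroup.map_subtype_commutator A
    rw [← h] at hc
    obtain ⟨c', hc', hcc⟩ := Subgroup.mem_map.mp hc
    have h2 : c' = ⟨c, hcA⟩ := Subtype.ext hcc
    rwa [h2] at hc'
  have hρ : ρ ⟨c, hcA⟩ = 1 := hcomker hc'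
  have hκc : ∀ t' : ↥T, κ (cj c (hA hcA) t') = κ t' := by
    intro t'
    have h1 := hact ⟨c, hcA⟩ t'
    rw [← h1]
    have h2 : ρ ⟨c, hcA⟩ (κ t') = κ t' := by
      rw [hρ]
      rfl
    exact h2
  have hzD : c * t * c⁻¹ * t⁻¹ ∈ D := by
    have h1 : κ (cj c (hA hcA) ⟨t, ht⟩ * (⟨t, ht⟩ : ↥T)⁻¹) = 1 := by
      rw [map_mul, map_inv, hκc, mul_inv_cancel]
    exact hDmem _ h1
  have hcz : (c * t * c⁻¹ * t⁻¹) * c = c * (c * t * c⁻¹ * t⁻¹) :=
    Subgroup.mem_centralizer_iff.mp (hcD hc) _ hzD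
  have hpow : ∀ k : ℕ, c ^ k * t * (c ^ k)⁻¹ = (c * t * c⁻¹ * t⁻¹) ^ k * t := by
    intro k
    induction k with
    | zero => simp
    | succ k ih =>
      have hczk : c * (c * t * c⁻¹ * t⁻¹) ^ k = (c * t * c⁻¹ * t⁻¹) ^ k * c :=
        (Commute.pow_right (show Commute c (c * t * c⁻¹ * t⁻¹) from hcz.symm) k).eq
      calc c ^ (k + 1) * t * (c ^ (k + 1))⁻¹ = c * (c ^ k * t * (c ^ k)⁻¹) * c⁻¹ := by
            rw [pow_succ']
            group
        _ = c * ((c * t * c⁻¹ * t⁻¹) ^ k * t) * c⁻¹ := by rw [ih]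
        _ = (c * (c * t * c⁻¹ * t⁻¹) ^ k) * t * c⁻¹ := by group
        _ = (c * t * c⁻¹ * t⁻¹) ^ k * (c * t * c⁻¹ * t⁻¹) * t := by
            rw [hczk]
            group
        _ = (c * t * c⁻¹ * t⁻¹) ^ (k + 1) * t := by rw [← pow_succ]
  have hzk : (c * t * c⁻¹ * t⁻¹) ^ orderOf c = 1 := by
    have h := hpow (orderOf c)
    rw [pow_orderOf_eq_one, one_mul, inv_one, mul_one] at h
    exact (mul_eq_right.mp h.symm)
  have hoddc : Odd (orderOf c) := hodd.of_dvd_nat (Subgroup.orderOf_dvd_natCard A hcA)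
  have hz2 : orderOf (c * t * c⁻¹ * t⁻¹) ∣ 2 ^ (n + 2) := by
    rw [← hTcard]
    exact Subgroup.orderOf_dvd_natCard T (hDT hzD)
  have hz1 : c * t * c⁻¹ * t⁻¹ = 1 := by
    have h1 : orderOf (c * t * c⁻¹ * t⁻¹) ∣ orderOf c := orderOf_dvd_of_pow_eq_one hzk
    have h2 : Nat.Coprime (orderOf c) (2 ^ (n + 2)) :=
      Nat.Coprime.pow_right _ (Nat.coprime_two_right.mpr hoddc)
    have h3 : orderOf (c * t * c⁻¹ * t⁻¹) ∣ 1 := by
      have h4 := Nat.dvd_gcd h1 hz2
      rwa [Nat.Coprime.gcd_eq_one h2] at h4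
    exact orderOf_eq_one_iff.mp (Nat.dvd_one.mp h3)
  rw [mul_inv_eq_one, mul_inv_eq_iff_eq_mul] at hz1
  exact hz1.symm

end quat

theorem pkgAutP : PkgAutP.{u} := by
  intro G _ _ T A p _ hA hT hpA hcq
  rcases hcq with hcyc | ⟨n, ⟨e⟩⟩
  · exact comm_le_centralizer_of_cyclic80 T A hA hcyc
  · rcases Nat.eq_zero_or_pos n with rfl | hn
    · have hcyc : IsCyclic T := by
        have h1 : IsCyclic (QuaternionGroup (2 ^ 0)) :=
          QuaternionGroup.quaternionGroup_one_isCyclic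
        exact isCyclic_of_surjective e.symm.toMonoidHom e.symm.surjective
      exact comm_le_centralizer_of_cyclic80 T A hA hcyc
    · have hne : NeZero (2 ^ n) := ⟨by positivity⟩
      have hTcard : Nat.card T = 2 ^ (n + 2) := by
        rw [Nat.card_congr e.toEquiv, Nat.card_eq_fintype_card, QuaternionGroup.card]
        ring
      have hp2 : p = 2 := by
        obtain ⟨k, hk⟩ := IsPGroup.iff_card.mp hT
        rw [hTcard] at hk
        have hk0 : k ≠ 0 := by
          rintro rfl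
          have h1 : 1 < (2 : ℕ) ^ (n + 2) := Nat.one_lt_two_pow (by omega)
          rw [pow_zero] at hk
          omega
        have hpd : p ∣ 2 ^ (n + 2) := by
          rw [hk]
          exact dvd_pow_self p hk0
        have h2 := Nat.Prime.dvd_of_dvd_pow (Fact.out : p.Prime) hpd
        exact (Nat.prime_dvd_prime_iff_eq Fact.out Nat.prime_two).mp h2
      subst hp2
      have hodd : Odd (Nat.card A) := by
        rw [← Nat.not_even_iff_odd, even_iff_two_dvd]
        exact hpA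
      exact comm_le_centralizer_of_quat80 T A n hn hA hodd e

end Cfsg.Agent.Lib.Helper80.TIH
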